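import Groth.Agent.Lib.ASProp18.Natural
import Groth.Agent.Lib.EtQc13.ASConst
import Groth.Agent.S0110

/-!
# Étale cohomology of the additive group, equivariantly for global functions
-/

set_option autoImplicit false
set_option backward.isDefEq.respectTransparency false
set_option backward.isDefEq.respectTransparency.types false

universe u

open CategoryTheory CategoryTheory.Limits CategoryTheory.Abelian AlgebraicGeometry Opposite TopologicalSpace

noncomputable section

namespace GrothLib.ASProp18

open GrothLib.EtQc13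

variable (X : Scheme.{u})

/-- Natural version of the comparison with the lifted space. -/
theorem exists_natural_H_resUp (n : ℕ) :
    ∃ e : ∀ F : EtCoh.Ab X, (affClass X).Acyclic F → (EtCoh.H X F n ≃+ CohTop.H ((resUp X).obj F) n),
      ∀ (F F' : EtCoh.Ab X) (hF : (affClass X).Acyclic F) (hF' : (affClass X).Acyclic F') (g : F ⟶ F')
        (x : EtCoh.H X F n), e F' hF' (Sheaf.H.map g n x) = Sheaf.H.map ((resUp X).map g) n (e F hF x) := by
  haveI := preservesFiniteLimits_upSheaf X
  haveI : PreservesFiniteLimits (resUp X) := comp_preservesFiniteLimits _ _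
  haveI hι : IsIso (⊤ : X.Opens).ι := inferInstanceAs (IsIso X.topIso.hom)
  let hT : IsTerminal ((EtZar.zarToEt X).obj ⊤) :=
    (EtCore.topIsTerminal X).ofIso
      (MorphismProperty.Over.isoMk (@asIso _ _ _ _ _ hι).symm (@IsIso.inv_hom_id _ _ _ _ (⊤ : X.Opens).ι hι))
  refine exists_natural_H_equiv (resUp X) hT (isTerminalTop (α := Opens (upTop X)))
    (fun F => AddEquiv.refl _) (fun g s => rfl) (affClass X).Acyclic (fun A hA => ?_) (fun I hI m => ?_) n
  · have hS := SheafCoh.injSES_shortExact A
    refine ⟨(affClass X).acyclic_X₃ hS hA ((affClass X).acyclic_of_injective _), shortExact_map_of_epi _ hS ?_⟩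
    haveI : Sheaf.IsLocallySurjective ((resUp X).map (SheafCoh.injSES A).g) := ⟨fun {U} s x hx => by
      obtain ⟨W, hW, hxW, hWU⟩ := exists_isAffineOpen_mem_and_subset (X := X) (U := (downOpens X).obj U)
        (x := x.down) hx
      haveI : IsAffine W.toScheme := hW
      let W' : Opens (upTop X) := (upOpens X).obj W
      let i : W' ⟶ U := homOfLE fun p hp => hWU (show p.down ∈ W from hp)
      obtain ⟨r, hr⟩ := (affClass X).surjective hS hA (Y := (EtZar.zarToEt X).obj W)
        (show IsAffine W.toScheme from hW) (((resUp X).obj (SheafCoh.injSES A).X₃).obj.map i.op s)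
      exact ⟨W', i, ⟨r, hr⟩, hxW⟩⟩
    exact Sheaf.epi_of_isLocallySurjective _
  · haveI := EtDer.injective_resZar I
    haveI : Injective ((resUp X).obj I) := injective_upSheaf X _
    exact Ext.subsingleton_of_injective _ _ _

/-- Natural version of the comparison of lifted values. -/
theorem exists_natural_H_liftUp (n : ℕ) :
    ∃ e : ∀ F : Sheaf (Opens.grothendieckTopology X) AddCommGrpCat.{u}, True →
        (Sheaf.H.{u} F n ≃+ CohTop.H ((liftUp X).obj F) n),
      ∀ (F F' : Sheaf (Opens.grothendieckTopology X) AddCommGrpCat.{u}) (hF : True) (hF' : True) (g : F ⟶ F')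
        (x : Sheaf.H.{u} F n), e F' hF' (Sheaf.H.map g n x) = Sheaf.H.map ((liftUp X).map g) n (e F hF x) := by
  haveI := preservesFiniteLimits_upSheaf X
  let L := sheafCompose (Opens.grothendieckTopology X) AddCommGrpCat.uliftFunctor.{u + 1, u}
  haveI : PreservesFiniteLimits (L ⋙ sheafToPresheaf _ AddCommGrpCat.{u + 1}) :=
    inferInstanceAs (PreservesFiniteLimits (sheafToPresheaf _ AddCommGrpCat.{u} ⋙
      (Functor.whiskeringRight _ _ _).obj AddCommGrpCat.uliftFunctor.{u + 1, u}))
  haveI : PreservesFiniteLimits L := preservesFiniteLimits_of_reflects_of_preserves L (sheafToPresheaf _ _)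
  haveI : PreservesFiniteLimits (liftUp X) := comp_preservesFiniteLimits _ _
  haveI : (liftUp X).Additive := ⟨fun {_ _ _ _} => rfl⟩
  refine exists_natural_H_equiv (liftUp X) (isTerminalTop (α := X.Opens)) (isTerminalTop (α := Opens (upTop X)))
    (fun F => AddEquiv.ulift.symm) (fun g s => rfl) (fun _ => True) (fun A _ => ?_) (fun I hI m => ?_) n
  · have hS := SheafCoh.injSES_shortExact A
    refine ⟨trivial, shortExact_map_of_epi _ hS ?_⟩
    haveI := hS.epi_g
    haveI : Sheaf.IsLocallySurjective (SheafCoh.injSES A).g := (Sheaf.isLocallySurjective_iff_epi' _ _).2 inferInstance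
    haveI : Sheaf.IsLocallySurjective ((liftUp X).map (SheafCoh.injSES A).g) := ⟨fun {U} s x hx => by
      obtain ⟨W, i, ⟨r, hr⟩, hxW⟩ := Presheaf.imageSieve_mem (Opens.grothendieckTopology X) (SheafCoh.injSES A).g.hom
        (U := op ((downOpens X).obj U)) (ULift.down s) x.down hx
      let W' : Opens (upTop X) := (upOpens X).obj W
      refine ⟨W', homOfLE fun p hp => i.le (show p.down ∈ W from hp), ⟨ULift.up r, ?_⟩, hxW⟩
      exact ULift.ext _ _ hr⟩
    exact Sheaf.epi_of_isLocallySurjective _
  · haveI := hI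
    haveI : TopCat.Sheaf.IsFlasque (show CohTop.Ab X.toPresheafedSpace.carrier from I) := SheafCoh.isFlasque_of_injective _
    haveI : TopCat.Sheaf.IsFlasque ((liftUp X).obj I) := ⟨fun {U V} i => (AddCommGrpCat.epi_iff_surjective _).2 fun s => by
      obtain ⟨r, hr⟩ := SheafCoh.restriction_surjective_of_injective (show CohTop.Ab X.toPresheafedSpace.carrier from I)
        ((downOpens X).map i.unop) (ULift.down s)
      exact ⟨ULift.up r, ULift.ext _ _ hr⟩⟩
    exact SheafCoh.flasque_H_subsingleton _ m

/-- Multiplication by a global function on the additive group. -/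
def mulEt (r : Γ(X, ⊤)) : EtCoh.Ga X ⟶ EtCoh.Ga X :=
  ⟨{ app := fun U => AddCommGrpCat.uliftFunctor.{u + 1}.map
        (AddCommGrpCat.ofHom (AddMonoidHom.mulLeft (U.unop.hom.appTop.hom r : Γ(U.unop.left, ⊤))))
     naturality := by
       intro U V g
       ext ⟨x⟩
       refine congrArg ULift.up ?_
       let y : Γ(U.unop.left, ⊤) := x
       let cU : Γ(U.unop.left, ⊤) := U.unop.hom.appTop.hom r
       let cV : Γ(V.unop.left, ⊤) := V.unop.hom.appTop.hom r
       change cV * g.unop.left.appTop.hom y = g.unop.left.appTop.hom (cU * y)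
       rw [map_mul]
       refine congrArg (· * _) ?_
       exact ConcreteCategory.congr_hom (Scheme.Hom.comp_appTop g.unop.left U.unop.hom) r |>.symm.trans
         (congrArg (fun q : V.unop.left ⟶ X => q.appTop.hom r) (MorphismProperty.Over.w g.unop)) |>.symm }⟩

/-- Frobenius on the additive group commutes with scalars up to the `p`-th power. -/
theorem mulEt_comp_artinSchreier (p : ℕ) (hp : p.Prime) (h0 : (p : Γ(X, ⊤)) = 0) (r : Γ(X, ⊤)) :
    mulEt X r ≫ (W4c5etcohweilstudent.artinSchreierEndo X p hp h0 + 𝟙 _) =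
      (W4c5etcohweilstudent.artinSchreierEndo X p hp h0 + 𝟙 _) ≫ mulEt X (r ^ p) := by
  ext U ⟨x⟩
  refine congrArg ULift.up ?_
  let y : Γ(U.unop.left, ⊤) := x
  let c : Γ(U.unop.left, ⊤) := U.unop.hom.appTop.hom r
  let c' : Γ(U.unop.left, ⊤) := U.unop.hom.appTop.hom (r ^ p)
  change (c * y) ^ p - c * y + c * y = c' * (y ^ p - y + y)
  rw [sub_add_cancel, sub_add_cancel, mul_pow]
  exact congrArg (· * y ^ p) (map_pow U.unop.hom.appTop.hom r p).symm

/-- The lifted restriction of the additive group is the lifted structure sheaf. -/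
def gaIso : (resUp X).obj (EtCoh.Ga X) ≅ (liftUp X).obj (Coh.toAb (Coh.structureModule X)) :=
  (fullyFaithfulSheafToPresheaf _ _).preimageIso (NatIso.ofComponents (fun U =>
    AddCommGrpCat.uliftFunctor.{u + 1, u}.mapIso
      ((forget₂ CommRingCat.{u} RingCat.{u} ⋙ forget₂ RingCat.{u} AddCommGrpCat.{u}).mapIso
        (((downOpens X).obj U.unop).topIso)))
    fun {U V} f => by
      ext z
      refine ULift.ext _ _ ?_
      exact ConcreteCategory.congr_hom (Groth.Agent.S0110.homOfLE_appTop_topIso X
        ((downOpens X).map f.unop)) (ULift.down z))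

theorem gaIso_natural (r : Γ(X, ⊤)) :
    (resUp X).map (mulEt X r) ≫ (gaIso X).hom =
      (gaIso X).hom ≫ (liftUp X).map (Coh.smulAb (Coh.structureModule X) r) := by
  ext U z
  refine ULift.ext _ _ ?_
  let W : X.Opens := (downOpens X).obj U.unop
  let y : Γ(W.toScheme, ⊤) := ULift.down z
  let c : Γ(W.toScheme, ⊤) := W.ι.appTop.hom r
  change W.topIso.hom.hom (c * y) = (X.presheaf.map (homOfLE le_top).op).hom r * W.topIso.hom.hom y
  rw [map_mul]
  refine congrArg (· * _) ?_
  change (W.ι.appTop ≫ W.topIso.hom).hom r = _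
  rw [Scheme.Opens.topIso_hom, Scheme.Hom.appTop, Scheme.Opens.ι_app]
  erw [← X.presheaf.map_comp]
  rfl

/-- Étale cohomology of the additive group is coherent cohomology, compatibly with global functions. -/
theorem exists_equivariant (n : ℕ) :
    ∃ E : EtCoh.H X (EtCoh.Ga X) n ≃+ Coh.HH X (Coh.structureModule X) n,
      ∀ (r : Γ(X, ⊤)) (x : EtCoh.H X (EtCoh.Ga X) n),
        E (Sheaf.H.map (mulEt X r) n x) = Sheaf.H.map (Coh.smulAb (Coh.structureModule X) r) n (E x) := by
  obtain ⟨e₁, h₁⟩ := exists_natural_H_resUp X n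
  obtain ⟨e₂, h₂⟩ := exists_natural_H_liftUp X n
  let α := ((Sheaf.functorH _ n).mapIso (gaIso X)).addCommGroupIsoToAddEquiv
  let a := e₁ _ (acyclic_Ga X)
  let b := e₂ (Coh.toAb (Coh.structureModule X)) trivial
  refine ⟨(a.trans α).trans b.symm, fun r x => b.injective ?_⟩
  simp only [AddEquiv.trans_apply]
  refine (b.apply_symm_apply _).trans (Eq.trans ?_ (h₂ _ _ trivial trivial _ _).symm)
  refine Eq.trans ?_ (congrArg (Sheaf.H.map ((liftUp X).map (Coh.smulAb (Coh.structureModule X) r)) n)
    (b.apply_symm_apply _)).symm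
  refine (congrArg α (h₁ _ _ (acyclic_Ga X) (acyclic_Ga X) (mulEt X r) x)).trans ?_
  change Sheaf.H.map (gaIso X).hom n (Sheaf.H.map ((resUp X).map (mulEt X r)) n (a x)) =
    Sheaf.H.map ((liftUp X).map (Coh.smulAb (Coh.structureModule X) r)) n (Sheaf.H.map (gaIso X).hom n (a x))
  rw [← Sheaf.H.map_comp_apply, ← Sheaf.H.map_comp_apply, gaIso_natural]

end GrothLib.ASProp18
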