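import Groth.Agent.Lib.EtQc13.ZarComp

/-!
# A natural comparison of cohomology along a functor exact on a class of sheaves
-/

set_option autoImplicit false
set_option linter.unusedSectionVars false

universe w w' u₁ v₁ w₁ u₂ v₂ w₂ e₁ e₂

open CategoryTheory CategoryTheory.Limits CategoryTheory.Abelian Opposite
open GrothLib.SheafCoh

noncomputable section

namespace GrothLib.ASProp18

section Ext

variable {A : Type*} [Category A] [Abelian A] [HasExt.{w} A] [EnoughInjectives A]
  {B : Type*} [Category B] [Abelian B] [HasExt.{w'} B]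
  (G : A ⥤ B) [G.PreservesZeroMorphisms] (X : A) (Y : B) (φ : ∀ F : A, (X ⟶ F) ≃+ (Y ⟶ G.obj F))
  (P : A → Prop)

/-- Families of comparison maps commuting with every morphism. -/
def NatEquiv (n : ℕ) (e : ∀ F : A, P F → (Ext.{w} X F n ≃+ Ext.{w'} Y (G.obj F) n)) : Prop :=
  ∀ (F F' : A) (hF : P F) (hF' : P F') (g : F ⟶ F') (x : Ext.{w} X F n),
    e F' hF' (x.comp (Ext.mk₀ g) (add_zero n)) = (e F hF x).comp (Ext.mk₀ (G.map g)) (add_zero n)

theorem exists_lift_injSES {F F' : A} (g : F ⟶ F') :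
    ∃ ψ : injSES F ⟶ injSES F', ψ.τ₁ = g := by
  let t : (injSES F).X₂ ⟶ (injSES F').X₂ := Injective.factorThru (g ≫ Injective.ι F') (Injective.ι F)
  have ht : Injective.ι F ≫ t = g ≫ Injective.ι F' := Injective.comp_factorThru _ _
  refine ⟨ShortComplex.homMk g t (cokernel.map _ _ g t ht) ht.symm ?_, rfl⟩
  exact (cokernel.π_desc _ _ _).symm

theorem comp_extClass_natural {C : Type*} [Category C] [Abelian C] [HasExt.{w} C] {Z : C}
    {S S' : ShortComplex C} (hS : S.ShortExact) (hS' : S'.ShortExact) (ψ : S ⟶ S') (n : ℕ)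
    (y : Ext.{w} Z S.X₃ n) :
    (y.comp hS.extClass rfl).comp (Ext.mk₀ ψ.τ₁) (add_zero (n + 1)) =
      (y.comp (Ext.mk₀ ψ.τ₃) (add_zero n)).comp hS'.extClass rfl := by
  refine (Ext.comp_assoc y _ (Ext.mk₀ _) rfl (add_zero 1) (by omega)).trans ?_
  rw [ShortComplex.ShortExact.extClass_naturality hS hS' ψ]
  exact (Ext.comp_assoc y (Ext.mk₀ _) _ (add_zero n) (zero_add 1) (by omega)).symm

/-- The comparison along a functor exact on a class can be chosen natural. -/
theorem exists_natEquiv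
    (hφ : ∀ {F F' : A} (g : F ⟶ F') (a : X ⟶ F), φ F' (a ≫ g) = φ F a ≫ G.map g)
    (hG : ∀ F, P F → P (injSES F).X₃ ∧ ((injSES F).map G).ShortExact)
    (hI : ∀ I : A, Injective I → ∀ n : ℕ, Subsingleton (Ext.{w'} Y (G.obj I) (n + 1)))
    (n : ℕ) : ∃ e, NatEquiv.{w, w'} G X Y P n e ∧
      (∀ h0 : n = 0, ∀ (F : A) (hF : P F) (g : X ⟶ F),
        e F hF (h0 ▸ Ext.mk₀ g) = h0 ▸ Ext.mk₀ (φ F g)) := by
  induction n with
  | zero =>
    refine ⟨fun F _ => (Ext.addEquiv₀.trans (φ F)).trans Ext.addEquiv₀.symm, fun F F' _ _ g x => ?_,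
      fun _ F _ g => ?_⟩
    swap
    · simp only [AddEquiv.trans_apply, ← Ext.addEquiv₀_symm_apply, AddEquiv.apply_symm_apply]
    obtain ⟨a, rfl⟩ := Ext.addEquiv₀.symm.surjective x
    have hz : ∀ {W : A} (b : X ⟶ W), (((Ext.addEquiv₀.{w}.trans (φ W)).trans Ext.addEquiv₀.symm) (Ext.mk₀ b)) =
        Ext.mk₀ (φ W b) := fun {W} b => by
      simp only [AddEquiv.trans_apply, ← Ext.addEquiv₀_symm_apply, AddEquiv.apply_symm_apply]
    rw [Ext.addEquiv₀_symm_apply, Ext.mk₀_comp_mk₀, hz, hz, Ext.mk₀_comp_mk₀, hφ]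
  | succ n ih =>
    have hX : ∀ (F : A) m, Subsingleton (Ext.{w} X (injSES F).X₂ (m + 1)) := fun F m =>
      Ext.subsingleton_of_injective _ _ _
    have hY : ∀ (F : A) m, Subsingleton (Ext.{w'} Y ((injSES F).map G).X₂ (m + 1)) := fun F m =>
      hI _ (Injective.injective_under F) m
    obtain ⟨e, he, he0⟩ := ih
    suffices H : ∃ e' : ∀ F : A, P F → (Ext.{w} X F (n + 1) ≃+ Ext.{w'} Y (G.obj F) (n + 1)),
        ∀ (F : A) (hF : P F) (y : Ext.{w} X (injSES F).X₃ n),
          e' F hF (y.comp (injSES_shortExact F).extClass rfl) =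
            (e _ (hG F hF).1 y).comp (hG F hF).2.extClass rfl by
      obtain ⟨e', he'⟩ := H
      refine ⟨e', fun F F' hF hF' g x => ?_, fun h0 => absurd h0 (Nat.succ_ne_zero n)⟩
      obtain ⟨y, rfl⟩ := extClass_surjective (injSES_shortExact F) n (hX F n) x
      obtain ⟨ψ, rfl⟩ := exists_lift_injSES g
      rw [comp_extClass_natural (injSES_shortExact F) (injSES_shortExact F') ψ, he', he', he _ _ (hG F hF).1]
      exact (comp_extClass_natural (hG F hF).2 (hG F' hF').2 (G.mapShortComplex.map ψ) n _).symm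
    cases n with
    | zero =>
      have hzero : ∀ {F : A} (hF : P F) (g : X ⟶ F), e F hF (Ext.mk₀ g) = Ext.mk₀ (φ F g) :=
        fun hF g => he0 rfl _ hF g
      have key : ∀ (F : A) (hF : P F), ∃ q : Ext.{w} X F 1 ≃+ Ext.{w'} Y (G.obj F) 1,
          ∀ y : Ext.{w} X (injSES F).X₃ 0, q (y.comp (injSES_shortExact F).extClass rfl) =
            (e _ (hG F hF).1 y).comp (hG F hF).2.extClass rfl := fun F hF => by
        let a := (injSES_shortExact F).extClass.postcomp X (zero_add 1)
        let b := ((hG F hF).2.extClass.postcomp Y (zero_add 1)).comp (e _ (hG F hF).1).toAddMonoidHom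
        have ha : Function.Surjective a := extClass_surjective (injSES_shortExact F) 0 (hX F 0)
        have hb : Function.Surjective b :=
          Function.Surjective.comp (g := fun z : Ext.{w'} Y ((injSES F).map G).X₃ 0 =>
            z.comp (hG F hF).2.extClass rfl) (extClass_surjective (hG F hF).2 0 (hY F 0)) (e _ (hG F hF).1).surjective
        have hker : a.ker = b.ker := by
          ext y
          change y.comp (injSES_shortExact F).extClass rfl = 0 ↔
            (e _ (hG F hF).1 y).comp (hG F hF).2.extClass rfl = 0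
          constructor
          · intro h
            obtain ⟨z, rfl⟩ := Ext.covariant_sequence_exact₃ X (injSES_shortExact F) y rfl h
            obtain ⟨g', rfl⟩ := (Ext.mk₀_bijective _ _).2 z
            have e₁ : e _ (hG F hF).1 ((Ext.mk₀ g').comp (Ext.mk₀ (injSES F).g) (add_zero 0)) =
                (Ext.mk₀ (φ _ g')).comp (Ext.mk₀ (G.map (injSES F).g)) (add_zero 0) := by
              rw [Ext.mk₀_comp_mk₀, Ext.mk₀_comp_mk₀, ← hφ]
              exact hzero _ _
            rw [e₁]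
            exact (Ext.comp_assoc_of_second_deg_zero _ _ _ _).trans
              ((congrArg (fun t => Ext.comp _ t (zero_add 1)) (hG F hF).2.comp_extClass).trans (Ext.comp_zero ..))
          · intro h
            obtain ⟨z, hz⟩ := Ext.covariant_sequence_exact₃ Y (hG F hF).2 _ rfl h
            obtain ⟨g', rfl⟩ := (Ext.mk₀_bijective _ _).2 z
            obtain ⟨g'', rfl⟩ := (φ (injSES F).X₂).surjective g'
            have : y = (Ext.mk₀ g'').comp (Ext.mk₀ (injSES F).g) (add_zero 0) := by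
              apply (e _ (hG F hF).1).injective
              refine hz.symm.trans ?_
              rw [Ext.mk₀_comp_mk₀, Ext.mk₀_comp_mk₀]
              exact (congrArg Ext.mk₀ (hφ _ _).symm).trans (hzero _ _).symm
            rw [this, Ext.comp_assoc_of_second_deg_zero, ShortComplex.ShortExact.comp_extClass, Ext.comp_zero]
        let eA := QuotientAddGroup.quotientKerEquivOfSurjective a ha
        let eB := QuotientAddGroup.quotientKerEquivOfSurjective b hb
        refine ⟨(eA.symm.trans (QuotientAddGroup.quotientAddEquivOfEq hker)).trans eB, fun y => ?_⟩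
        change eB ((QuotientAddGroup.quotientAddEquivOfEq hker) (eA.symm (a y))) = b y
        rw [show eA.symm (a y) = (QuotientAddGroup.mk y : _ ⧸ a.ker) from eA.symm_apply_eq.2 rfl]
        rfl
      choose q hq using key
      exact ⟨q, hq⟩
    | succ m =>
      refine ⟨fun F hF => (extShift (injSES_shortExact F) (m + 1) (hX F m) (hX F (m + 1))).symm.trans
        ((e _ (hG F hF).1).trans (extShift (X := Y) (hG F hF).2 (m + 1) (hY F m) (hY F (m + 1)))), fun F hF y => ?_⟩
      simp only [AddEquiv.trans_apply]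
      rw [show (extShift (injSES_shortExact F) (m + 1) (hX F m) (hX F (m + 1))).symm
        (y.comp (injSES_shortExact F).extClass rfl) = y from (AddEquiv.symm_apply_eq _).2 rfl]
      rfl

end Ext

section Sheaf

variable {C : Type u₁} [Category.{v₁} C] {J : GrothendieckTopology C} [HasSheafify J AddCommGrpCat.{w₁}]
  [HasExt.{e₁} (Sheaf J AddCommGrpCat.{w₁})] [EnoughInjectives (Sheaf J AddCommGrpCat.{w₁})]
  {D : Type u₂} [Category.{v₂} D] {K : GrothendieckTopology D} [HasSheafify K AddCommGrpCat.{w₂}]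
  [HasExt.{e₂} (Sheaf K AddCommGrpCat.{w₂})]

/-- Natural comparison of sheaf cohomology along a functor preserving global sections. -/
theorem exists_natural_H_equiv (G : Sheaf J AddCommGrpCat.{w₁} ⥤ Sheaf K AddCommGrpCat.{w₂})
    [G.PreservesZeroMorphisms] {T : C} (hT : IsTerminal T) {T' : D} (hT' : IsTerminal T')
    (ψ : ∀ F : Sheaf J AddCommGrpCat.{w₁}, F.obj.obj (op T) ≃+ (G.obj F).obj.obj (op T'))
    (hψ : ∀ {F F' : Sheaf J AddCommGrpCat.{w₁}} (g : F ⟶ F') (s : F.obj.obj (op T)),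
      ψ F' (g.hom.app (op T) s) = (G.map g).hom.app (op T') (ψ F s))
    (P : Sheaf J AddCommGrpCat.{w₁} → Prop)
    (hG : ∀ F, P F → P (SheafCoh.injSES F).X₃ ∧ ((SheafCoh.injSES F).map G).ShortExact)
    (hI : ∀ I : Sheaf J AddCommGrpCat.{w₁}, Injective I → ∀ n : ℕ, Subsingleton (Sheaf.H.{e₂} (G.obj I) (n + 1)))
    (n : ℕ) : ∃ e : ∀ F, P F → (Sheaf.H.{e₁} F n ≃+ Sheaf.H.{e₂} (G.obj F) n),
      ∀ (F F' : Sheaf J AddCommGrpCat.{w₁}) (hF : P F) (hF' : P F') (g : F ⟶ F') (x : Sheaf.H.{e₁} F n),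
        e F' hF' (Sheaf.H.map g n x) = Sheaf.H.map (G.map g) n (e F hF x) := by
  let φ : ∀ F : Sheaf J AddCommGrpCat.{w₁},
      ((constantSheaf J AddCommGrpCat.{w₁}).obj (AddCommGrpCat.of (ULift ℤ)) ⟶ F) ≃+
      ((constantSheaf K AddCommGrpCat.{w₂}).obj (AddCommGrpCat.of (ULift ℤ)) ⟶ G.obj F) :=
    fun F => (Ext.addEquiv₀.{e₁}.symm.trans ((Sheaf.H.equiv₀ F hT).trans (ψ F))).trans
      ((Sheaf.H.equiv₀.{e₂} (G.obj F) hT').symm.trans Ext.addEquiv₀)
  obtain ⟨e, he, -⟩ := exists_natEquiv G _ _ φ P (fun {F F'} g a => by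
    obtain ⟨x, rfl⟩ := Ext.addEquiv₀.{e₁}.surjective a
    rw [← Sheaf.H.addEquiv₀_map]
    simp only [φ, AddEquiv.trans_apply, AddEquiv.symm_apply_apply]
    rw [← Sheaf.H.equiv₀_naturality, hψ, ← Sheaf.H.equiv₀_symm_naturality]
    exact Sheaf.H.addEquiv₀_map _ _) hG hI n
  exact ⟨e, he⟩

end Sheaf

end GrothLib.ASProp18
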