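import Groth.Agent.Lib.SigmaLin.AlgClosed
import Mathlib.FieldTheory.IsAlgClosed.AlgebraicClosure
import Mathlib.FieldTheory.PurelyInseparable.Basic

/-!
# `T - 1` for Frobenius-semilinear endomorphisms over separably closed fields
-/

set_option autoImplicit false

universe u v

open Polynomial

namespace GrothLib.ASProp18

variable {k : Type u} [Field k] (p : ℕ) [Fact p.Prime] [CharP k p]

/-- An element of an algebraic extension whose `p`-th powers systems are defined over `k`. -/
theorem mem_range_of_fixed_system [IsSepClosed k] {n : ℕ} (A : Fin n → Fin n → k) (v : Fin n → k)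
    (x : Fin n → AlgebraicClosure k)
    (hx : ∀ i, (∑ j, algebraMap k _ (A i j) * x j ^ p) - x i = algebraMap k _ (v i)) :
    ∀ i, x i ∈ (algebraMap k (AlgebraicClosure k)).range := by
  haveI : ExpChar k p := ExpChar.prime (Fact.out : p.Prime)
  haveI : CharP (AlgebraicClosure k) p :=
    charP_of_injective_algebraMap (algebraMap k (AlgebraicClosure k)).injective p
  have hall : ∃ M : ℕ, ∀ i, x i ^ p ^ M ∈ (algebraMap k (AlgebraicClosure k)).range := by
    choose N hN using fun i => IsPurelyInseparable.pow_mem k p (x i)
    refine ⟨Finset.univ.sup N, fun i => ?_⟩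
    obtain ⟨d, hd⟩ := Nat.exists_eq_add_of_le (Finset.le_sup (f := N) (Finset.mem_univ i))
    rw [hd, pow_add, pow_mul]
    exact pow_mem (hN i) _
  obtain ⟨M, hM⟩ := hall
  induction M with
  | zero => simpa using hM
  | succ M ih =>
    refine ih fun i => ?_
    have h : x i = (∑ j, algebraMap k _ (A i j) * x j ^ p) - algebraMap k _ (v i) := by
      rw [← hx i]; ring
    rw [h, sub_pow_char_pow, sum_pow_char_pow]
    have hmem : ∀ c : k, algebraMap k (AlgebraicClosure k) c ∈ (algebraMap k (AlgebraicClosure k)).range :=
      fun c => RingHom.mem_range_self _ c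
    refine sub_mem (sum_mem fun j _ => ?_) (pow_mem (hmem _) _)
    rw [mul_pow, ← pow_mul, ← pow_succ']
    exact mul_mem (pow_mem (hmem _) _) (hM j)

/-- `T - 1` is surjective for a `p`-semilinear endomorphism over a separably closed field. -/
theorem surjective_sub [IsSepClosed k] {V : Type v} [AddCommGroup V] [Module k V] [Module.Finite k V]
    (T : V →+ V) (hT : ∀ (c : k) (w : V), T (c • w) = c ^ p • T w) :
    Function.Surjective fun w => T w - w := by
  haveI : CharP (AlgebraicClosure k) p :=
    charP_of_injective_algebraMap (algebraMap k (AlgebraicClosure k)).injective p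
  intro v
  let b := Module.finBasis k V
  let A : Fin (Module.finrank k V) → Fin (Module.finrank k V) → k := fun i j => b.repr (T (b j)) i
  let L := AlgebraicClosure k
  let T' : (Fin (Module.finrank k V) → L) →ₛₗ[frobenius L p] (Fin (Module.finrank k V) → L) :=
    { toFun := fun x i => ∑ j, algebraMap k L (A i j) * x j ^ p
      map_add' := fun x y => funext fun i => by
        simp only [Pi.add_apply, add_pow_char, mul_add, Finset.sum_add_distrib]
      map_smul' := fun c x => funext fun i => by
        simp only [Pi.smul_apply, smul_eq_mul, mul_pow, frobenius_def]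
        rw [Finset.mul_sum]
        exact Finset.sum_congr rfl fun j _ => mul_left_comm (algebraMap k L (A i j)) (c ^ p) (x j ^ p) }
  have hτ := GrothLib.SigmaLin.langHyp_frobenius (k := L) p
  obtain ⟨x, hx⟩ := (GrothLib.SigmaLin.sub_surjective T' hτ.surj hτ.h2 hτ.h3).1
    (fun i => - algebraMap k L (b.repr v i))
  have hx' : ∀ i, (∑ j, algebraMap k L (A i j) * x j ^ p) - x i = algebraMap k L (b.repr v i) := fun i => by
    have h := congrFun hx i
    simp only [Pi.sub_apply] at h
    rw [← neg_sub]
    exact neg_eq_iff_eq_neg.2 h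
  choose y hy' using mem_range_of_fixed_system p A _ x hx'
  have hy : ∀ i, algebraMap k L (y i) = x i := hy'
  refine ⟨∑ j, y j • b j, b.repr.injective (Finsupp.ext fun i => ?_)⟩
  apply (algebraMap k L).injective
  rw [← hx' i]
  simp only [map_sub, map_sum, hT, map_smul, Finsupp.sub_apply, Finsupp.coe_finset_sum, Finset.sum_apply,
    Finsupp.smul_apply, smul_eq_mul, map_mul, map_pow, hy, A, Module.Basis.repr_self]
  congr 1
  · exact Finset.sum_congr rfl fun j _ => mul_comm _ _
  · rw [Finset.sum_eq_single i (fun j _ hj => by rw [Finsupp.single_apply, if_neg hj, map_zero, mul_zero])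
      (fun h => absurd (Finset.mem_univ i) h), Finsupp.single_eq_same, map_one, mul_one]

/-- A `p`-semilinear endomorphism of a finite-dimensional space has finitely many fixed vectors. -/
theorem finite_fixed {V : Type v} [AddCommGroup V] [Module k V] [Module.Finite k V]
    (T : V →+ V) (hT : ∀ (c : k) (w : V), T (c • w) = c ^ p • T w) : {w : V | T w = w}.Finite := by
  classical
  obtain ⟨s, hs, hspan, hli⟩ := exists_linearIndependent k {w : V | T w = w}
  haveI : Fintype s := hli.setFinite.fintype
  have hroots : ({c : k | c ^ p = c}).Finite := by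
    refine (Polynomial.finite_setOf_isRoot (FiniteField.X_pow_card_sub_X_ne_zero k (Fact.out : p.Prime).one_lt)).subset ?_
    intro c hc
    simp [Polynomial.IsRoot, Set.mem_ofPred.1 hc]
  refine ((Set.Finite.pi (fun _ : s => hroots)).image fun c : s → k => ∑ i, c i • (i : V)).subset ?_
  intro w hw
  have hwspan : w ∈ Submodule.span k (Set.range ((↑) : s → V)) := by
    rw [Subtype.range_coe, hspan]
    exact Submodule.subset_span hw
  obtain ⟨c, rfl⟩ := (Submodule.mem_span_range_iff_exists_fun k).1 hwspan
  refine ⟨c, fun i _ => ?_, rfl⟩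
  have hfix : ∑ i : s, (c i ^ p - c i) • (i : V) = 0 := by
    have h : T (∑ i, c i • (i : V)) = ∑ i, c i • (i : V) := hw
    rw [map_sum] at h
    simp only [sub_smul, Finset.sum_sub_distrib]
    rw [sub_eq_zero]
    refine Eq.trans ?_ h
    exact Finset.sum_congr rfl fun j _ => by rw [hT, show T (j : V) = j from hs j.2]
  exact sub_eq_zero.1 (Fintype.linearIndependent_iff.1 hli _ hfix i)

end GrothLib.ASProp18
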