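import Groth.Agent.Lib.ASProp18.GaZar
import Groth.Agent.Lib.ASProp18.Semilin
import Groth.Agent.Lib.Euler.Basic
import Groth.Agent.Lib.Euler.Coh
import Groth.Agent.Lib.GVanish.Main
import Groth.Agent.S0002
import Groth.Prelude.Def_EtBase

/-!
# The Artin–Schreier sequence of a proper scheme over a separably closed field
-/

set_option autoImplicit false
set_option backward.isDefEq.respectTransparency false

universe u

open CategoryTheory CategoryTheory.Limits CategoryTheory.Abelian AlgebraicGeometry Opposite TopologicalSpace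

noncomputable section

namespace GrothLib.ASProp18

open GrothLib.EtQc13

variable {k : Type u} [Field k] (p : ℕ) [Fact p.Prime] [CharP k p]
  {X : Scheme.{u}} (f : X ⟶ Spec (CommRingCat.of k)) [IsProper f] (h0 : (p : Γ(X, ⊤)) = 0)

include f in
theorem natCast_eq_zero : (p : Γ(X, ⊤)) = 0 := by
  have h : (f.appTop.hom.comp (Scheme.ΓSpecIso (CommRingCat.of k)).inv.hom) (p : k) = 0 := by
    rw [CharP.cast_eq_zero, map_zero]
  rwa [map_natCast] at h

include f in
/-- On each cohomology group of the additive group, Artin–Schreier is `T - 1` for a Frobenius-semilinear `T`. -/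
theorem exists_semilinear (q : ℕ) :
    ∃ (V : Type u) (_ : AddCommGroup V) (_ : Module k V) (_ : Module.Finite k V)
      (E : EtCoh.H X (EtCoh.Ga X) q ≃+ V) (T : V →+ V),
      (∀ (c : k) (v : V), T (c • v) = c ^ p • T v) ∧
      ∀ x, E (Sheaf.H.map (W4c5etcohweilstudent.artinSchreierEndo X p (Fact.out : p.Prime) h0) q x) =
        T (E x) - E x := by
  letI : X.Over (Spec (CommRingCat.of k)) := ⟨f⟩
  haveI : IsProper (X ↘ Spec (CommRingCat.of k)) := ‹IsProper f›
  haveI := GrothLib.Euler.isNoetherian_of_proper (X := X) k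
  have hfin : Module.Finite k (Coh.HH X (Coh.structureModule X) q) :=
    Groth.Agent.S0002.result k X _ (GrothLib.Euler.isCoh_of_isInvertible GrothLib.Euler.isInvertible_structure) q
  obtain ⟨E, hE⟩ := exists_equivariant X q
  let a := W4c5etcohweilstudent.artinSchreierEndo X p (Fact.out : p.Prime) h0
  let T : Coh.HH X (Coh.structureModule X) q →+ Coh.HH X (Coh.structureModule X) q :=
    E.toAddMonoidHom.comp ((Sheaf.H.map (a + 𝟙 _) q).comp E.symm.toAddMonoidHom)
  refine ⟨_, inferInstance, inferInstance, hfin, E, T, fun c v => ?_, fun x => ?_⟩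
  · obtain ⟨x, rfl⟩ := E.surjective v
    let r : Γ(X, ⊤) := Coh.toGlobal f c
    have hr : (Coh.toGlobal f (c ^ p) : Γ(X, ⊤)) = r ^ p := map_pow (Coh.toGlobal f) c p
    change E (Sheaf.H.map (a + 𝟙 _) q (E.symm (Sheaf.H.map (Coh.smulAb (Coh.structureModule X) r) q (E x)))) =
      Sheaf.H.map (Coh.smulAb (Coh.structureModule X) (Coh.toGlobal f (c ^ p))) q
        (E (Sheaf.H.map (a + 𝟙 _) q (E.symm (E x))))
    rw [← hE, E.symm_apply_apply, E.symm_apply_apply, ← Sheaf.H.map_comp_apply, mulEt_comp_artinSchreier,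
      Sheaf.H.map_comp_apply, hE]
    exact (congrArg (fun s => Sheaf.H.map (Coh.smulAb (Coh.structureModule X) s) q _) hr).symm
  · change _ = E (Sheaf.H.map (a + 𝟙 _) q (E.symm (E x))) - E x
    rw [E.symm_apply_apply, Sheaf.H.map_add_apply, Sheaf.H.map_id_apply, map_add, add_sub_cancel_right]

include f in
/-- Artin–Schreier is surjective on the cohomology of the additive group. -/
theorem surjective_artinSchreier [IsSepClosed k] (q : ℕ) :
    Function.Surjective
      (Sheaf.H.map (W4c5etcohweilstudent.artinSchreierEndo X p (Fact.out : p.Prime) h0) q) := by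
  obtain ⟨V, _, _, _, E, T, hT, hE⟩ := exists_semilinear p f h0 q
  intro y
  obtain ⟨v, hv⟩ := surjective_sub p T hT (E y)
  refine ⟨E.symm v, E.injective ?_⟩
  rw [hE, E.apply_symm_apply]
  exact hv

include f in
/-- The kernel of Artin–Schreier on cohomology is finite. -/
theorem finite_ker_artinSchreier (q : ℕ) :
    {x : EtCoh.H X (EtCoh.Ga X) q |
      Sheaf.H.map (W4c5etcohweilstudent.artinSchreierEndo X p (Fact.out : p.Prime) h0) q x = 0}.Finite := by
  obtain ⟨V, _, _, _, E, T, hT, hE⟩ := exists_semilinear p f h0 q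
  refine ((finite_fixed p T hT).preimage (f := E) E.injective.injOn).subset fun x hx => ?_
  show T (E x) = E x
  rw [← sub_eq_zero, ← hE, show Sheaf.H.map _ q x = 0 from hx, map_zero]

include f in
/-- Constant coefficients inject into the additive group on cohomology. -/
theorem exists_injective [IsSepClosed k] :
    ∃ ι : EtCoh.const X (ZMod p) ⟶ EtCoh.Ga X,
      ι ≫ W4c5etcohweilstudent.artinSchreierEndo X p (Fact.out : p.Prime) h0 = 0 ∧
      ∀ q, Function.Injective (Sheaf.H.map ι q) := by
  obtain ⟨e⟩ := exists_iso_const X p h0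
  let a := W4c5etcohweilstudent.artinSchreierEndo X p (Fact.out : p.Prime) h0
  haveI : Epi a := Groth.Agent.S18415.result p Fact.out h0
  let T := ShortComplex.mk (kernel.ι a) a (kernel.condition a)
  have hT : T.ShortExact := { exact := T.exact_of_f_is_kernel (kernelIsKernel a) }
  refine ⟨e.hom ≫ kernel.ι a, by rw [Category.assoc, kernel.condition, comp_zero], fun q => ?_⟩
  have hinj : Function.Injective (Sheaf.H.map (kernel.ι a) q) := by
    cases q with
    | zero =>
      intro x y hxy
      apply Ext.addEquiv₀.injective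
      have := congrArg Ext.addEquiv₀ hxy
      rw [Sheaf.H.addEquiv₀_map, Sheaf.H.addEquiv₀_map] at this
      exact (cancel_mono _).1 this
    | succ q =>
      rw [injective_iff_map_eq_zero]
      intro x hx
      obtain ⟨y, hy⟩ := Ext.covariant_sequence_exact₁ _ hT x hx rfl
      obtain ⟨z, rfl⟩ := surjective_artinSchreier p f h0 q y
      rw [← hy, Sheaf.H.map_apply, Ext.comp_assoc_of_second_deg_zero]
      exact (congrArg (fun t => Ext.comp z t rfl) hT.comp_extClass).trans (Ext.comp_zero ..)
  intro x y hxy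
  rw [Sheaf.H.map_comp_apply, Sheaf.H.map_comp_apply] at hxy
  have := congrArg (Sheaf.H.map e.inv q) (hinj hxy)
  rwa [← Sheaf.H.map_comp_apply, ← Sheaf.H.map_comp_apply, e.hom_inv_id, Sheaf.H.map_id_apply,
    Sheaf.H.map_id_apply] at this

include f in
/-- Constant mod `p` cohomology is finite. -/
theorem finite_H_const [IsSepClosed k] (q : ℕ) : Finite (EtCoh.H X (EtCoh.const X (ZMod p)) q) := by
  have h0 := natCast_eq_zero p f
  obtain ⟨ι, hι, hinj⟩ := exists_injective p f h0
  have hfin := (finite_ker_artinSchreier p f h0 q).to_subtype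
  refine Finite.of_injective (β := {x : EtCoh.H X (EtCoh.Ga X) q |
      Sheaf.H.map (W4c5etcohweilstudent.artinSchreierEndo X p (Fact.out : p.Prime) h0) q x = 0})
    (fun x => ⟨Sheaf.H.map ι q x, ?_⟩) fun x y h => hinj q (congrArg Subtype.val h)
  show Sheaf.H.map _ q (Sheaf.H.map ι q x) = 0
  rw [← Sheaf.H.map_comp_apply, hι]
  exact (congrArg (fun t => Ext.comp x t (add_zero q)) (Ext.mk₀_zero _ _)).trans (Ext.comp_zero ..)

include f in
/-- Constant mod `p` cohomology vanishes above the dimension. -/
theorem subsingleton_H_const [IsSepClosed k] (d : ℕ) (hd : topologicalKrullDim X ≤ d) (q : ℕ) (hq : d < q) :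
    Subsingleton (EtCoh.H X (EtCoh.const X (ZMod p)) q) := by
  have h0 := natCast_eq_zero p f
  obtain ⟨ι, hι, hinj⟩ := exists_injective p f h0
  obtain ⟨E, -⟩ := exists_equivariant X q
  letI : X.Over (Spec (CommRingCat.of k)) := ⟨f⟩
  haveI : IsProper (X ↘ Spec (CommRingCat.of k)) := ‹IsProper f›
  haveI := GrothLib.Euler.isNoetherian_of_proper (X := X) k
  haveI : NoetherianSpace ↑X.toTopCat := inferInstanceAs (NoetherianSpace X)
  have hz : Subsingleton (Coh.HH X (Coh.structureModule X) q) :=
    GrothLib.GVanish.subsingleton_H_of_krullDim_le (X := X.toTopCat) d hd (Coh.toAb (Coh.structureModule X)) q hq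
  exact ((E.injective.comp (hinj q))).subsingleton

end GrothLib.ASProp18
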